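import Mathlib
import Cfsg.Agent.LieRecognition.RankOneAbstract
import Cfsg.Agent.SuzukiRankOne.RankOneIso
set_option linter.all false

/-!
# Uniqueness of rank-one data

`Data H S w` (`RankOneAbstract`): `w ∉ H`, `S ≤ H` normal in `H`, `G = H ∪ S w H`, `S ∩ w H w⁻¹ = 1`.
If moreover `w * w = 1`, the core of `H` is trivial and `G = ⟨S, w⟩`, then `G` is determined by the group
`S` and the map `g` with `w x w ∈ g(x) w H`.
-/

set_option autoImplicit false

namespace Cfsg.Agent.UThreeGen.DataIso

open Cfsg.Agent.LieRecognition.RankOneAbstract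

variable {G G' : Type*} [Group G] [Group G']

/-- The action on the cosets is faithful as soon as the core is trivial. -/
theorem faithful_of_core (H : Subgroup G) (h : ∀ g : G, (∀ k : G, k⁻¹ * g * k ∈ H) → g = 1) :
    FaithfulSMul G (G ⧸ H) := by
  constructor
  intro g g' hgg
  have h1 : g'⁻¹ * g = 1 := by
    apply h
    intro k
    have h2 := hgg (QuotientGroup.mk k)
    change (QuotientGroup.mk (g * k) : G ⧸ H) = QuotientGroup.mk (g' * k) at h2
    rw [eq_comm, QuotientGroup.eq] at h2
    have h3 : k⁻¹ * (g'⁻¹ * g) * k = (g' * k)⁻¹ * (g * k) := by group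
    rw [h3]
    exact h2
  exact (inv_mul_eq_one.mp h1).symm

theorem exists_mulEquiv_of_data {H S : Subgroup G} {w : G} {H' S' : Subgroup G'} {w' : G'}
    (D : Data H S w) (D' : Data H' S' w') (hw : w * w = 1) (hw' : w' * w' = 1)
    (hcore : ∀ g : G, (∀ k : G, k⁻¹ * g * k ∈ H) → g = 1)
    (hcore' : ∀ g : G', (∀ k : G', k⁻¹ * g * k ∈ H') → g = 1)
    (hgen : Subgroup.closure ((S : Set G) ∪ {w}) = ⊤)
    (hgen' : Subgroup.closure ((S' : Set G') ∪ {w'}) = ⊤)
    (φ : S ≃* S')
    (hφ : ∀ x y : S, x ≠ 1 → ((y : G) * w)⁻¹ * (w * (x : G) * w) ∈ H →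
      ((φ y : G') * w')⁻¹ * (w' * (φ x : G') * w') ∈ H') :
    ∃ Φ : G ≃* G', (∀ x : S, Φ (x : G) = (φ x : G')) ∧ Φ w = w' := by
  classical
  have hf : FaithfulSMul G (G ⧸ H) := faithful_of_core H hcore
  have hf' : FaithfulSMul G' (G' ⧸ H') := faithful_of_core H' hcore'
  have hwinv : w⁻¹ = w := inv_eq_of_mul_eq_one_right hw
  have hwinv' : w'⁻¹ = w' := inv_eq_of_mul_eq_one_right hw'
  let e : (G ⧸ H) ≃ (G' ⧸ H') := ((D.equiv).symm.trans (Equiv.optionCongr φ.toEquiv)).trans (D'.equiv)
  have hD0 : D.equiv none = (QuotientGroup.mk 1 : G ⧸ H) := rfl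
  have hDs : ∀ s : S, D.equiv (some s) = (QuotientGroup.mk ((s : G) * w) : G ⧸ H) := fun _ => rfl
  have hD0' : D'.equiv none = (QuotientGroup.mk 1 : G' ⧸ H') := rfl
  have hDs' : ∀ s : S', D'.equiv (some s) = (QuotientGroup.mk ((s : G') * w') : G' ⧸ H') :=
    fun _ => rfl
  have he0 : e (QuotientGroup.mk 1) = QuotientGroup.mk 1 := by
    have : (D.equiv).symm (QuotientGroup.mk 1) = none := by
      rw [Equiv.symm_apply_eq]; exact hD0.symm
    show D'.equiv (Equiv.optionCongr φ.toEquiv ((D.equiv).symm _)) = _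
    rw [this]; rfl
  have hes : ∀ s : S, e (QuotientGroup.mk ((s : G) * w)) = QuotientGroup.mk ((φ s : G') * w') := by
    intro s
    have : (D.equiv).symm (QuotientGroup.mk ((s : G) * w)) = some s := by
      rw [Equiv.symm_apply_eq]; exact (hDs s).symm
    show D'.equiv (Equiv.optionCongr φ.toEquiv ((D.equiv).symm _)) = _
    rw [this]; rfl
  have hpt : ∀ ω : G ⧸ H, ω = QuotientGroup.mk 1 ∨ ∃ s : S, ω = QuotientGroup.mk ((s : G) * w) := by
    intro ω
    by_cases hω : ω = QuotientGroup.mk 1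
    · exact Or.inl hω
    · obtain ⟨s, hs⟩ := D.exists_eq ω hω
      exact Or.inr ⟨s, hs.symm⟩
  have hsm : ∀ (g k : G), g • (QuotientGroup.mk k : G ⧸ H) = QuotientGroup.mk (g * k) :=
    fun _ _ => rfl
  have hsm' : ∀ (g k : G'), g • (QuotientGroup.mk k : G' ⧸ H') = QuotientGroup.mk (g * k) :=
    fun _ _ => rfl
  have hS : ∀ (x : S) (ω : G ⧸ H), e ((x : G) • ω) = (φ x : G') • e ω := by
    intro x ω
    rcases hpt ω with rfl | ⟨y, rfl⟩
    · have h1 : (x : G) • (QuotientGroup.mk 1 : G ⧸ H) = QuotientGroup.mk 1 := by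
        rw [hsm, eq_comm, QuotientGroup.eq]
        simpa using D.le x.2
      have h2 : (φ x : G') • (QuotientGroup.mk 1 : G' ⧸ H') = QuotientGroup.mk 1 := by
        rw [hsm', eq_comm, QuotientGroup.eq]
        simpa using D'.le (φ x).2
      rw [h1, he0, h2]
    · rw [hsm, ← mul_assoc, ← Subgroup.coe_mul, hes, hes, hsm', map_mul, Subgroup.coe_mul, mul_assoc]
  have ht : ∀ ω : G ⧸ H, e (w • ω) = w' • e ω := by
    intro ω
    rcases hpt ω with rfl | ⟨x, rfl⟩
    · rw [he0, hsm, hsm', mul_one, mul_one]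
      have := hes 1
      simpa using this
    · by_cases hx : x = 1
      · subst hx
        rw [hes, hsm, hsm']
        simp only [Subgroup.coe_one, one_mul, map_one]
        rw [hw, hw', he0]
      · have hn : w * (x : G) * w ∉ H := by
          intro h
          apply hx
          apply Subtype.ext
          exact D.inter x x.2 (by rw [hwinv]; exact h)
        obtain ⟨y, hy, h⟩ := D.bruhat _ hn
        have h2 := hφ x ⟨y, hy⟩ hx h
        have h3 : w • (QuotientGroup.mk ((x : G) * w) : G ⧸ H) = QuotientGroup.mk (y * w) := by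
          rw [hsm, eq_comm, QuotientGroup.eq, ← mul_assoc w]
          exact h
        have h4 : w' • (QuotientGroup.mk ((φ x : G') * w') : G' ⧸ H') =
            QuotientGroup.mk ((φ ⟨y, hy⟩ : G') * w') := by
          rw [hsm', eq_comm, QuotientGroup.eq, ← mul_assoc w']
          exact h2
        rw [h3, hes, h4]
        exact hes ⟨y, hy⟩
  obtain ⟨Φ, h1, -⟩ := SuzukiRankOne.RankOneIso.exists_mulEquiv_of_family (ι := Option S) e
    (fun o => o.elim w (fun x => (x : G))) (fun o => o.elim w' (fun x => (φ x : G')))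
    (by
      rw [← hgen]; congr 1; ext y
      simp only [Set.mem_range, Option.exists, Option.elim_none, Option.elim_some, Set.mem_union,
        SetLike.mem_coe, Set.mem_singleton_iff, Subtype.exists, exists_prop, exists_eq_right]
      constructor
      · rintro (h | h)
        · exact Or.inr h.symm
        · exact Or.inl h
      · rintro (h | h)
        · exact Or.inr h
        · exact Or.inl h.symm)
    (by
      rw [← hgen']; congr 1; ext y
      simp only [Set.mem_range, Option.exists, Option.elim_none, Option.elim_some, Set.mem_union,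
        SetLike.mem_coe, Set.mem_singleton_iff]
      constructor
      · rintro (h | ⟨x, h⟩)
        · exact Or.inr h.symm
        · exact Or.inl (h ▸ (φ x).2)
      · rintro (h | h)
        · refine Or.inr ⟨φ.symm ⟨y, h⟩, ?_⟩
          rw [MulEquiv.apply_symm_apply]
        · exact Or.inl h.symm)
    (by
      rintro (_ | x) ω
      · exact ht ω
      · exact hS x ω)
  exact ⟨Φ, fun x => h1 (some x), h1 none⟩

/-- The image of rank-one data under a surjective homomorphism with kernel inside `H`. -/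
theorem mem_of_map_mem {H : Subgroup G} (π : G →* G') (hk : π.ker ≤ H) {g : G}
    (hg : π g ∈ H.map π) : g ∈ H := by
  obtain ⟨h, hh, he⟩ := hg
  have h1 : h⁻¹ * g ∈ π.ker := by
    rw [MonoidHom.mem_ker, map_mul, map_inv, he, inv_mul_cancel]
  have h2 := H.mul_mem hh (hk h1)
  simpa using h2

theorem data_map {H S : Subgroup G} {w : G} (D : Data H S w) (π : G →* G')
    (hπ : Function.Surjective π) (hk : π.ker ≤ H) :
    Data (H.map π) (S.map π) (π w) where
  w_not_mem := fun h => D.w_not_mem (mem_of_map_mem π hk h)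
  le := Subgroup.map_mono D.le
  norm := by
    rintro _ ⟨h, hh, rfl⟩ _ ⟨s, hs, rfl⟩
    exact ⟨_, D.norm h hh s hs, by simp⟩
  bruhat := by
    intro g' hg'
    obtain ⟨g, rfl⟩ := hπ g'
    have hg : g ∉ H := fun h => hg' ⟨g, h, rfl⟩
    obtain ⟨s, hs, h⟩ := D.bruhat g hg
    exact ⟨π s, ⟨s, hs, rfl⟩, ⟨_, h, by simp⟩⟩
  inter := by
    rintro _ ⟨s, hs, rfl⟩ h
    have h1 : w⁻¹ * s * w ∈ H := by
      apply mem_of_map_mem π hk
      simpa using h
    rw [D.inter s hs h1, map_one]

end Cfsg.Agent.UThreeGen.DataIso
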